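import Groth.Agent.Lib.CMReg18.ClosedSub
import Groth.Agent.Lib.CMReg18.QuotFam

/-!
# Finitely many closed subschemes of projective space over a finite field with a given Hilbert function
-/

set_option autoImplicit false
set_option linter.style.haveILetI false
set_option linter.unusedSectionVars false
set_option maxHeartbeats 1000000
set_option backward.isDefEq.respectTransparency false

universe u

open CategoryTheory CategoryTheory.Limits AlgebraicGeometry TopologicalSpace Opposite

noncomputable section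

namespace Groth.Agent.TateFinD14

open Groth.Agent CMReg18

variable {k : Type u} [Field k] {n : ℕ}

/-- The quotient of the free module of rank one defining a closed subscheme. -/
def subQuot {Z : Scheme.{u}} (i : Z ⟶ CohB1.ProjSpace n k) :
    FlatMod.freeMod (CohB1.ProjSpace n k) 1 ⟶ (Scheme.Modules.pushforward i).obj (Coh.structureModule Z) :=
  Sigma.desc fun _ => ClSub.unitToPush i

theorem ι_subQuot {Z : Scheme.{u}} (i : Z ⟶ CohB1.ProjSpace n k) :
    Sigma.ι (fun _ : Fin 1 => Coh.structureModule (CohB1.ProjSpace n k)) 0 ≫ subQuot i = ClSub.unitToPush i :=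
  Sigma.ι_desc _ _

theorem epi_subQuot {Z : Scheme.{u}} (i : Z ⟶ CohB1.ProjSpace n k) [IsClosedImmersion i] : Epi (subQuot i) := by
  haveI := FGA3.epi_unitToPush i
  exact epi_of_epi_fac (ι_subQuot i)

/-- The twists of projective space, pulled back along the identity. -/
abbrev idData (k : Type u) [Field k] (n : ℕ) : TwistData (CohB1.ProjSpace n k) :=
  (projData k n).pullback (𝟙 _)

/-- The sections of the twisted free module vanishing on a closed subscheme. -/
def vanSec (M : ℤ) {Z : Scheme.{u}} (i : Z ⟶ CohB1.ProjSpace n k) :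
    Set Γ((idData k n).tw (FlatMod.freeMod (CohB1.ProjSpace n k) 1) M, (⊤ : (CohB1.ProjSpace n k).Opens)) :=
  {t | ((M2.tensorR ((idData k n).O M)).map (subQuot i)).app ⊤ t = 0}

theorem ker_le_of_vanSec {M : ℤ} {Z Z' : Scheme.{u}} (i : Z ⟶ CohB1.ProjSpace n k) (i' : Z' ⟶ CohB1.ProjSpace n k)
    [IsClosedImmersion i] [IsClosedImmersion i']
    (hgg : Curv2.IsGloballyGenerated ((idData k n).tw (kernel (subQuot i)) M))
    (h : vanSec M i = vanSec M i') : i.ker ≤ i'.ker := by
  let T := M2.tensorR ((idData k n).O M)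
  have h0 : T.map (kernel.ι (subQuot i) ≫ subQuot i') = 0 := by
    refine eq_zero_of_kills hgg fun t => ?_
    rw [Functor.map_comp, Scheme.Modules.Hom.comp_app, CategoryTheory.comp_apply]
    have hm : (T.map (kernel.ι (subQuot i))).app ⊤ t ∈ vanSec M i := by
      show (T.map (subQuot i)).app ⊤ ((T.map (kernel.ι (subQuot i))).app ⊤ t) = 0
      rw [← CategoryTheory.comp_apply, ← Scheme.Modules.Hom.comp_app, ← Functor.map_comp, kernel.condition,
        Functor.map_zero]
      rfl
    rw [h] at hm
    exact hm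
  let eM : CohB1.tensorMod ((idData k n).O M) ((idData k n).O (-M)) ≅ Coh.structureModule (CohB1.ProjSpace n k) :=
    (idData k n).add M (-M) ≪≫ eqToIso (congrArg (idData k n).O (add_neg_cancel M)) ≪≫ (idData k n).zero
  have h1 : kernel.ι (subQuot i) ≫ subQuot i' = 0 := by
    have h2 := TwistData.untwist_natural eM (kernel.ι (subQuot i) ≫ subQuot i')
    rw [h0, Functor.map_zero, zero_comp] at h2
    rw [← cancel_epi (M2.untwist eM (kernel (subQuot i))).hom, comp_zero]
    exact h2.symm
  haveI := epi_subQuot i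
  let φ := Abelian.epiDesc (subQuot i) (subQuot i') h1
  have hfac : ClSub.unitToPush i' = ClSub.unitToPush i ≫ φ := by
    rw [← ι_subQuot i, ← ι_subQuot i', Category.assoc, Abelian.comp_epiDesc]
  intro U a ha
  rw [Scheme.Hom.ker_apply, RingHom.mem_ker] at ha ⊢
  have h3 : (ClSub.unitToPush i').app U.1 a = φ.app U.1 ((ClSub.unitToPush i).app U.1 a) := by
    rw [hfac, Scheme.Modules.Hom.comp_app, CategoryTheory.comp_apply]
  change (i'.app U.1) a = φ.app U.1 ((i.app U.1) a) at h3
  change (i'.app U.1) a = 0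
  rw [h3]
  exact (congrArg _ ha).trans (map_zero _)

theorem finite_sections [Finite k] {N : (CohB1.ProjSpace n k).Modules} (hN : Coh.IsCoh N) :
    Finite Γ(N, (⊤ : (CohB1.ProjSpace n k).Opens)) := by
  haveI := isProper_projSpace k (n := n)
  haveI : IsNoetherian (CohB1.ProjSpace n k) :=
    CohFound.isNoetherian_of_isProper (CohB1.ProjSpace n k ↘ Spec (CommRingCat.of k))
  haveI := CohFound.finite_HH_of_isProper (A := k) _ hN 0
  haveI : Finite (Coh.HH (CohB1.ProjSpace n k) N 0) := Module.finite_of_finite k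
  exact Finite.of_equiv _ (CurveCoh17.hh0 N).toEquiv

/-- Over a finite field only finitely many closed subschemes of projective space have a given Hilbert function. -/
theorem exists_finite_closedSub [Finite k] (n : ℕ) (χ : ℕ → ℤ) :
    ∃ (J : Type u) (_ : Finite J) (F : J → Over (Spec (CommRingCat.of k))),
      ∀ (Z : Over (Spec (CommRingCat.of k))) (i : Z.left ⟶ CohB1.ProjSpace n k), IsClosedImmersion i →
        i ≫ CohB1.ProjSpace.toSpec n k = Z.hom →
        (∀ l : ℕ, @Curv2.euler k _ Z.left ⟨Z.hom⟩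
          (((projData k n).pullback i).tw (Coh.structureModule Z.left) (l : ℤ)) = χ l) →
        ∃ j, Nonempty (Z ≅ F j) := by
  classical
  haveI := isProper_projSpace k (n := n)
  haveI : IsNoetherian (CohB1.ProjSpace n k) :=
    CohFound.isNoetherian_of_isProper (CohB1.ProjSpace n k ↘ Spec (CommRingCat.of k))
  obtain ⟨M, hM⟩ := exists_uniform_quotients (𝟙 (CohB1.ProjSpace n k)) (Category.id_comp _) 1 fun l => (χ l : ℚ)
  let N := (idData k n).tw (FlatMod.freeMod (CohB1.ProjSpace n k) 1) M
  haveI : Finite Γ(N, (⊤ : (CohB1.ProjSpace n k).Opens)) :=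
    finite_sections (CurveCoh17.isCoh_tensor (CurveCoh17.isCoh_of_ofRank (M2.isFinLocFreeOfRank_freeMod _ 1))
      (Snapper.isCoh_of_isInvertible ((idData k n).inv M)))
  let P : Set Γ(N, (⊤ : (CohB1.ProjSpace n k).Opens)) →
      ∀ (Z : Over (Spec (CommRingCat.of k))) (_ : Z.left ⟶ CohB1.ProjSpace n k), Prop := fun S Z i =>
    IsClosedImmersion i ∧ i ≫ CohB1.ProjSpace.toSpec n k = Z.hom ∧
      Curv2.IsGloballyGenerated ((idData k n).tw (kernel (subQuot i)) M) ∧ vanSec M i = S
  refine ⟨{S // ∃ Z i, P S Z i}, inferInstance, fun j => j.2.choose, fun Z i hi hiZ hχ => ?_⟩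
  letI : Z.left.Over (Spec (CommRingCat.of k)) := ⟨Z.hom⟩
  haveI := hi
  haveI : IsProper (Z.left ↘ Spec (CommRingCat.of k)) := NumPoly18.isProper_of_closedImmersion i hiZ
  haveI : IsNoetherian Z.left := CohFound.isNoetherian_of_isProper (Z.left ↘ Spec (CommRingCat.of k))
  have hF : Coh.IsCoh ((Scheme.Modules.pushforward i).obj (Coh.structureModule Z.left)) :=
    CohFound.isCoh_push_closedImm i CurveCoh17.isCoh_structureModule
  have hgg := ((hM _ (subQuot i) hF (epi_subQuot i) fun l => by
    norm_cast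
    rw [← hχ l, ← euler_push_tw i hiZ (M1.isQCoh_structureModule Z.left)]
    exact CurveCoh17.euler_iso (k := k)
      (M2.tensorIso (Iso.refl _) ((Scheme.Modules.pullbackId _).app ((projData k n).O l)))).2.2 M le_rfl)
  have hj : ∃ Z' i', P (vanSec M i) Z' i' := ⟨Z, i, hi, hiZ, hgg, rfl⟩
  refine ⟨⟨vanSec M i, hj⟩, ?_⟩
  obtain ⟨hi', hiZ', hgg', hS⟩ := hj.choose_spec.choose_spec
  haveI := hi'
  have hker : i.ker = hj.choose_spec.choose.ker :=
    le_antisymm (ker_le_of_vanSec i _ hgg hS.symm) (ker_le_of_vanSec _ i hgg' hS)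
  haveI := IsClosedImmersion.isIso_lift hj.choose_spec.choose i hker.symm
  refine ⟨Over.isoMk (asIso (IsClosedImmersion.lift hj.choose_spec.choose i hker.symm.le)) ?_⟩
  show IsClosedImmersion.lift hj.choose_spec.choose i hker.symm.le ≫ hj.choose.hom = Z.hom
  rw [← hiZ', IsClosedImmersion.lift_fac_assoc, hiZ]

end Groth.Agent.TateFinD14
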