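import Groth.Agent.Lib.TateFinD14.Embed
import Groth.Agent.Lib.TateFinD14.Finite

/-!
# Finitely many bounded polarised abelian varieties over a finite field
-/

set_option autoImplicit false
set_option linter.style.haveILetI false
set_option linter.unusedSectionVars false
set_option maxHeartbeats 1000000
set_option backward.isDefEq.respectTransparency false

universe u

open CategoryTheory Limits MonoidalCategory CartesianMonoidalCategory AlgebraicGeometry TopologicalSpace

noncomputable section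

namespace Groth.Agent.TateFinD14

open Groth.Agent

/-- Over a finite field there are finitely many abelian varieties of given dimension with an ample module of
bounded Euler characteristic. -/
theorem exists_finite_isoClasses {k : Type u} [Field k] [Finite k] (g C : ℕ) :
    ∃ (J : Type u) (_ : Finite J) (F : J → Over (Spec (CommRingCat.of k))),
      ∀ (Z : Over (Spec (CommRingCat.of k))) [GrpObj Z] [IsCommMonObj Z] [IsProper Z.hom] [GeometricallyIntegral Z.hom],
        topologicalKrullDim Z.left = g → ∀ L : Z.left.Modules, CohB1.IsAmple L →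
          (@Curv2.euler k _ Z.left ⟨Z.hom⟩ L).natAbs ≤ C → ∃ j, Nonempty (Z ≅ F j) := by
  choose J hJ F hF using fun n : Fin ((2 * (g + 1)) ^ g * C + 1) =>
    exists_finite_closedSub (k := k) (n : ℕ) fun l : ℕ => (l : ℤ) ^ g * ((n : ℤ) + 1)
  haveI : ∀ n, Finite (J n) := hJ
  refine ⟨Σ n : ULift.{u} (Fin ((2 * (g + 1)) ^ g * C + 1)), J n.down, inferInstance, fun p => F p.1.down p.2,
    fun Z _ _ _ _ hg L hL hC => ?_⟩
  obtain ⟨n, i, hi, hiZ, hn, hh⟩ := exists_embedding Z hg hL
  let c : ℤ := @Curv2.euler k _ Z.left ⟨Z.hom⟩ L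
  have hn' : n < (2 * (g + 1)) ^ g * C + 1 := by
    have h1 : ((2 * (g + 1) : ℕ) : ℤ) ^ g * c ≤ ((2 * (g + 1) : ℕ) : ℤ) ^ g * (C : ℤ) :=
      mul_le_mul_of_nonneg_left ((le_abs_self c).trans (by rw [Int.abs_eq_natAbs]; exact_mod_cast hC)) (by positivity)
    have h2 : (n : ℤ) + 1 ≤ (((2 * (g + 1)) ^ g * C : ℕ) : ℤ) := by
      rw [hn]
      exact h1.trans_eq (by push_cast; rfl)
    omega
  obtain ⟨j, hj⟩ := hF ⟨n, hn'⟩ Z i hi hiZ fun l => by rw [hh l]; show _ = (l : ℤ) ^ g * ((n : ℤ) + 1); rw [hn]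
  exact ⟨⟨⟨⟨n, hn'⟩⟩, j⟩, hj⟩

end Groth.Agent.TateFinD14
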