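import Groth.Agent.Lib.CubeField.AmpleDescent
import Groth.Agent.Lib.CubeField.Dichotomy
import Groth.Agent.Lib.CubeField.FinInst
import Groth.Agent.Lib.CubeField.Simple
import Groth.Agent.Lib.MumVan22.AmpleVan
import Groth.Agent.Lib.RR22.Classify
import Groth.Agent.Lib.RelAmple18.Generation

/-!
# The square of an ample module on an abelian variety over a field is globally generated
-/

set_option autoImplicit false
set_option linter.style.haveILetI false
set_option linter.unusedSectionVars false
set_option maxHeartbeats 1000000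
set_option backward.isDefEq.respectTransparency false

universe u

open CategoryTheory Limits MonoidalCategory CartesianMonoidalCategory AlgebraicGeometry TopologicalSpace Opposite


noncomputable section

namespace Groth.Agent.TateFinD14

open Groth.Agent CubeField RigidRel

variable {K K' : Type u} [Field K] [Field K'] (g : CommRingCat.of K ⟶ CommRingCat.of K') {W Y : Scheme.{u}}
  {ξ : W ⟶ Spec (CommRingCat.of K)} {η : Y ⟶ Spec (CommRingCat.of K')} {f : Y ⟶ W}

/-- Where some section of the pullback along a field extension generates, some section generates. -/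
theorem exists_genLocus_of_pullback (hsq : IsPullback f η ξ (Spec.map g)) [CompactSpace W] [W.IsSeparated]
    {N : W.Modules} (hN : PicF.IsInvertible N)
    (s : Coh.structureModule Y ⟶ (Scheme.Modules.pullback f).obj N) {y : Y}
    (hy : y ∈ CohB1.genLocus _ s) :
    ∃ t : Coh.structureModule W ⟶ N, f y ∈ CohB1.genLocus N t := by
  classical
  obtain ⟨N₀, c, hV, hcov, ⟨T⟩⟩ := exists_triv _ hN
  obtain ⟨v, hv, hvG⟩ := (T.pull f).exists_coords (PicLoc.isInvertible_pullback f hN) s
  obtain ⟨β, b, hb⟩ := exists_coordinates g hsq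
  choose x' hxsum using fun i => (hb _ (hV i)).1 (v i)
  have hI : ∀ i j, IsAffineOpen (c.V i ⊓ c.V j) := fun i j => (hV i).inf (hV j)
  have hc : ∀ l, c.Compat fun i => x' i l := fun l i j => by
    let φ : β →₀ Γ(W, c.V i ⊓ c.V j) :=
      (x' i).mapRange (rs inf_le_left) (map_zero _) -
        (x' j).mapRange (fun z => c.g i j * rs inf_le_right z) (by rw [map_zero, mul_zero])
    have h0 : φ = 0 := by
      refine (hb _ (hI i j)).2 _ ?_
      have hsplit : φ.sum (fun l z => ringMap η (f ⁻¹ᵁ (c.V i ⊓ c.V j)) (b l) * f.app _ z) =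
          rs (f.preimage_mono inf_le_left) (v i) -
            f.app _ (c.g i j) * rs (f.preimage_mono inf_le_right) (v j) := by
        rw [Finsupp.sum_sub_index (fun a y z => by rw [map_sub, mul_sub]), Finsupp.sum_mapRange_index
          (fun a => by rw [map_zero, mul_zero]), Finsupp.sum_mapRange_index (fun a => by rw [map_zero, mul_zero]),
          ← hxsum i, ← hxsum j, sum_res (η := η) (f := f) b inf_le_left, sum_res (η := η) (f := f) b inf_le_right,
          Finsupp.mul_sum]
        exact congrArg _ (Finsupp.sum_congr fun l _ => by rw [map_mul, mul_left_comm])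
      rw [hsplit, sub_eq_zero]
      exact hv i j
    have h1 := congrArg (fun z => z l) h0
    simpa [φ, sub_eq_zero] using h1
  obtain ⟨i₀, hi₀⟩ : ∃ i, f y ∈ c.V i := Opens.mem_iSup.1 (hcov.ge (Opens.mem_top (f y)))
  have hy₀ : y ∈ f ⁻¹ᵁ c.V i₀ := hi₀
  have hyv : y ∈ Y.basicOpen (v i₀) := (hvG i₀).le ⟨hy, hy₀⟩
  obtain ⟨l, hl⟩ : ∃ l, f y ∈ W.basicOpen (x' i₀ l) := by
    by_contra hcon
    simp only [not_exists] at hcon
    rw [Scheme.mem_basicOpen Y _ y hy₀, ← hxsum i₀, map_finsuppSum] at hyv
    refine (IsLocalRing.mem_maximalIdeal _).1 (Ideal.sum_mem _ fun l _ => ?_) hyv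
    simp only [map_mul]
    refine Ideal.mul_mem_left _ _ ((IsLocalRing.mem_maximalIdeal _).2 fun hu => hcon l ?_)
    have : y ∈ f ⁻¹ᵁ W.basicOpen (x' i₀ l) := by
      rw [Scheme.preimage_basicOpen]; exact (Scheme.mem_basicOpen Y _ y hy₀).2 hu
    exact this
  obtain ⟨t, ht⟩ := T.exists_hom hN hcov (hc l)
  exact ⟨t, ((ht i₀).ge hl).1⟩

variable {k : Type u} [Field k]

section Bar

open Index22

variable (A : Over (Spec (CommRingCat.of k))) [GrpObj A] [IsProper A.hom] [GeometricallyIntegral A.hom]

theorem isAmple_bar {L : A.left.Modules} (hL : CohB1.IsAmple L) :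
    CohB1.IsAmple ((Scheme.Modules.pullback (prj A)).obj L) :=
  haveI : IsAffineHom (prj A) :=
    MorphismProperty.pullback_fst (P := @IsAffineHom) _ _ (inferInstance : IsAffineHom (φbar k))
  Amp.isAmple_pullback_of_isAffineHom (prj A) hL

theorem finrank_bar {M : A.left.Modules} (hM : Coh.IsQCoh M) (n : ℕ) :
    letI : (bar A).left.Over (Spec (CommRingCat.of (AlgebraicClosure k))) := ⟨(bar A).hom⟩
    letI : A.left.Over (Spec (CommRingCat.of k)) := ⟨A.hom⟩
    Module.finrank (AlgebraicClosure k) (Coh.HH (bar A).left ((Scheme.Modules.pullback (prj A)).obj M) n) =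
      Module.finrank k (Coh.HH A.left M n) := by
  letI : (bar A).left.Over (Spec (CommRingCat.of (AlgebraicClosure k))) := ⟨(bar A).hom⟩
  letI : A.left.Over (Spec (CommRingCat.of k)) := ⟨A.hom⟩
  haveI : CompactSpace A.left := QuasiCompact.compactSpace_of_compactSpace A.hom
  haveI : QuasiSeparatedSpace A.left := quasiSeparatedSpace_of_quasiSeparated A.hom
  obtain ⟨e⟩ := CohBC18.nonempty_HH_bc (k := k) A.left (AlgebraicClosure k) M hM n
  exact e.finrank_eq.symm.trans Module.finrank_baseChange

/-- An ample module on an abelian variety over a field has no higher cohomology. -/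
theorem subsingleton_of_isAmple {L : A.left.Modules} (hL : CohB1.IsAmple L) {p : ℕ} (hp : 0 < p) :
    Subsingleton (Coh.HH A.left L p) := by
  letI : (bar A).left.Over (Spec (CommRingCat.of (AlgebraicClosure k))) := ⟨(bar A).hom⟩
  letI : A.left.Over (Spec (CommRingCat.of k)) := ⟨A.hom⟩
  haveI : IsProper (A.left ↘ Spec (CommRingCat.of k)) := inferInstanceAs (IsProper A.hom)
  haveI : IsLocallyNoetherian A.left := LocallyOfFiniteType.isLocallyNoetherian A.hom
  haveI := MumVan22.subsingleton_of_isAmple (A := bar A) (isAmple_bar A hL) hp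
  haveI := CohFound.finite_HH_of_isProper (A := k) _ (CubeField.isCoh_of_isInvertible hL.1) p
  exact Module.finrank_zero_iff.1
    ((finrank_bar A (CubeField.isCoh_of_isInvertible hL.1).1 p).symm.trans Module.finrank_zero_of_subsingleton)

/-- An ample module on an abelian variety over a field has sections. -/
theorem nontrivial_of_isAmple {L : A.left.Modules} (hL : CohB1.IsAmple L) : Nontrivial (Coh.HH A.left L 0) := by
  letI : (bar A).left.Over (Spec (CommRingCat.of (AlgebraicClosure k))) := ⟨(bar A).hom⟩
  letI : A.left.Over (Spec (CommRingCat.of k)) := ⟨A.hom⟩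
  haveI : IsProper ((bar A).left ↘ Spec (CommRingCat.of (AlgebraicClosure k))) := inferInstanceAs (IsProper (bar A).hom)
  haveI : IsLocallyNoetherian A.left := LocallyOfFiniteType.isLocallyNoetherian A.hom
  haveI : IsLocallyNoetherian (bar A).left := LocallyOfFiniteType.isLocallyNoetherian (bar A).hom
  haveI := MumVan22.nontrivial_of_isAmple (A := bar A) (isAmple_bar A hL)
  haveI := CohFound.finite_HH_of_isProper (A := AlgebraicClosure k) _
    (CubeField.isCoh_of_isInvertible (isAmple_bar A hL).1) 0
  refine Module.nontrivial_of_finrank_pos (R := k) ?_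
  rw [← finrank_bar A (CubeField.isCoh_of_isInvertible hL.1).1 0]
  exact Module.finrank_pos

end Bar

/-- The square of an ample module on an abelian variety is globally generated. -/
theorem isGloballyGenerated_sq (A : Over (Spec (CommRingCat.of k))) [GrpObj A] [IsProper A.hom]
    [GeometricallyIntegral A.hom] {L : A.left.Modules} (hL : CohB1.IsAmple L) :
    Curv2.IsGloballyGenerated (CohB1.tensorPow L 2) := by
  letI : A.left.Over (Spec (CommRingCat.of k)) := ⟨A.hom⟩
  haveI : IsIntegral A.left := GeometricallyIntegral.isIntegral_of_subsingleton A.hom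
  haveI : CompactSpace A.left := QuasiCompact.compactSpace_of_compactSpace A.hom
  haveI : A.left.IsSeparated := ⟨by rw [← Limits.terminal.comp_from A.hom]; infer_instance⟩
  haveI := nontrivial_of_isAmple A hL
  obtain ⟨z, hz⟩ := exists_ne (0 : Coh.HH A.left L 0)
  have hz' : CurveCoh17.hh0 L z ≠ 0 := fun h => hz ((CurveCoh17.hh0 L).injective (h.trans (map_zero _).symm))
  let s := M1.secHom (CurveCoh17.hh0 L z)
  have hne : (CohB1.genLocus L s : Set A.left).Nonempty := genLocus_nonempty_of_ne_zero hL.1 hz'
  let K' := AlgebraicClosure k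
  let g := CommRingCat.ofHom (algebraMap k K')
  let F := Over.pullback (Spec.map g)
  let B := F.obj A
  haveI : GrpObj B := Functor.grpObjObj
  haveI : IsProper B.hom := inferInstanceAs (IsProper (pullback.snd A.hom (Spec.map g)))
  haveI : GeometricallyIntegral B.hom := inferInstanceAs (GeometricallyIntegral (pullback.snd A.hom (Spec.map g)))
  let f : B.left ⟶ A.left := pullback.fst A.hom (Spec.map g)
  have hsq : IsPullback f B.hom A.hom (Spec.map g) := IsPullback.of_hasPullback _ _
  haveI : Surjective (Spec.map g) := ⟨fun x =>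
    ⟨IsLocalRing.closedPoint K', Subsingleton.elim (α := Spec (CommRingCat.of k)) _ _⟩⟩
  haveI : Surjective f := MorphismProperty.of_isPullback hsq.flip ‹Surjective (Spec.map g)›
  let e := (PicLoc.pullbackStructureIso f).symm
  let s' := e.hom ≫ (Scheme.Modules.pullback f).map s
  have hne' : (CohB1.genLocus _ s' : Set B.left).Nonempty := by
    rw [Amp.genLocus_pullback f hL.1 s e]
    obtain ⟨x, hx⟩ := hne
    obtain ⟨w, hw⟩ := f.surjective x
    exact ⟨w, show f w ∈ CohB1.genLocus L s from hw ▸ hx⟩
  refine RA.isGloballyGenerated_of_gen (Amp.isInvertible_tensorPow hL.1 2) fun x => ?_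
  obtain ⟨y, hy⟩ := f.surjective x
  obtain ⟨G, ⟨t, ht⟩, hyG⟩ := CubeField.exists_hasSec_two (A := B) CubeField.finH1
    (PicLoc.isInvertible_pullback f hL.1) s' hne' y
  have hy' : y ∈ CohB1.genLocus _ (t ≫ (M2.pullTensorPowIso f L 2).symm.hom) := by
    rw [Amp.genLocus_comp_iso]; exact ht.ge hyG
  obtain ⟨t', ht'⟩ := exists_genLocus_of_pullback g hsq (Amp.isInvertible_tensorPow hL.1 2) _ hy'
  exact ⟨t', hy ▸ ht'⟩

end Groth.Agent.TateFinD14
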