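import Groth.Agent.Lib.TateFinD14.Descent
import Groth.Agent.Lib.CMReg18.OfInv
import Groth.Agent.Lib.CMReg18.QuotFam
import Groth.Agent.Lib.CurveVA17.ExactMap
import Groth.Agent.Lib.CurveVA17.Normal
import Groth.Agent.Lib.Snapper.Vanish
import Groth.Agent.Lib.SelfInt13.Main

/-!
# A uniform projective embedding of a polarised abelian variety
-/

set_option autoImplicit false
set_option linter.style.haveILetI false
set_option linter.unusedSectionVars false
set_option maxHeartbeats 1000000
set_option backward.isDefEq.respectTransparency false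

universe u

open CategoryTheory Limits MonoidalCategory CartesianMonoidalCategory AlgebraicGeometry TopologicalSpace Opposite

noncomputable section

namespace Groth.Agent.TateFinD14

open Groth.Agent CurveCoh17 Hilb13

variable {k : Type u} [Field k]

/-- With `M = L^(2(g+1))` the embedding by all sections is a closed immersion of bounded dimension and known
Hilbert function. -/
theorem exists_embedding (A : Over (Spec (CommRingCat.of k))) [GrpObj A] [IsProper A.hom]
    [GeometricallyIntegral A.hom] {g : ℕ} (hg : topologicalKrullDim A.left = g)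
    {L : A.left.Modules} (hL : CohB1.IsAmple L) :
    ∃ (n : ℕ) (i : A.left ⟶ CohB1.ProjSpace n k), IsClosedImmersion i ∧
      i ≫ CohB1.ProjSpace.toSpec n k = A.hom ∧
      ((n : ℤ) + 1 = ((2 * (g + 1) : ℕ) : ℤ) ^ g * chi L) ∧
      ∀ l : ℕ, @Curv2.euler k _ A.left ⟨A.hom⟩
          (((CMReg18.projData k n).pullback i).tw (Coh.structureModule A.left) (l : ℤ)) =
        (l : ℤ) ^ g * (((2 * (g + 1) : ℕ) : ℤ) ^ g * chi L) := by
  letI : A.left.Over (Spec (CommRingCat.of k)) := ⟨A.hom⟩
  haveI : IsProper (A.left ↘ Spec (CommRingCat.of k)) := inferInstanceAs (IsProper A.hom)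
  haveI : IsIntegral A.left := GeometricallyIntegral.isIntegral_of_subsingleton A.hom
  haveI : IsNoetherian A.left := CohFound.isNoetherian_of_isProper (A.left ↘ Spec (CommRingCat.of k))
  haveI : A.left.IsSeparated := ⟨by rw [← Limits.terminal.comp_from A.hom]; infer_instance⟩
  let B := CohB1.tensorPow L 2
  have hB : PicF.IsInvertible B := Amp.isInvertible_tensorPow hL.1 2
  have hBamp : CohB1.IsAmple B := (Amp.isAmple_tensorPow_iff hL.1 two_pos).2 hL
  obtain ⟨B', hB', ⟨eB⟩⟩ := M2.exists_inverse hB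
  obtain ⟨s, hs⟩ := CMReg18.exists_basis_gen k hB (isGloballyGenerated_sq A hL)
  let D := CMReg18.ofInv eB hB hB' s hs
  have hreg : D.IsReg (Coh.structureModule A.left) ((g + 1 : ℕ) : ℤ) := by
    intro i hi
    rcases Nat.lt_or_ge g i with h | h
    · exact Snapper.subsingleton_HH_of_dim k g hg.le
        (M2.isQCoh_of_isFinLocFree (M2.isFinLocFree_of_isInvertible
          (M2.isInvertible_tensor (PicLoc.isInvertible_structureModule A.left) (D.inv _)))) h
    · refine CMReg18.van_iso k (M2.tensorLUnit _ ≪≫ eqToIso (congrArg D.O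
          (show ((g + 1 : ℕ) : ℤ) - (i : ℤ) = ((g + 1 - i : ℕ) : ℤ) by omega)) ≪≫
          CMReg18.intPowNat (g + 1 - i)).symm ?_
      exact subsingleton_of_isAmple A ((Amp.isAmple_tensorPow_iff hB (by omega)).2 hBamp) (by omega)
  let M := CohB1.tensorPow B (g + 1)
  have hM : CohB1.IsAmple M := (Amp.isAmple_tensorPow_iff hB g.succ_pos).2 hBamp
  have hng := fun (n : ℕ) (hn : 1 ≤ n) =>
    CurveVA17.gen_of_isReg k D (g + 1) hreg (M := M) (CMReg18.intPowNat (g + 1)).symm n hn
  have hchiM : chi M = ((2 * (g + 1) : ℕ) : ℤ) ^ g * chi L := by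
    show chi (CohB1.tensorPow (CohB1.tensorPow L 2) (g + 1)) = _
    rw [SelfInt13.chi_natPow hg hB, SelfInt13.chi_natPow hg hL.1]
    push_cast
    rw [mul_pow]
    ring
  haveI : Module.Finite k (Coh.HH A.left M 0) :=
    CohFound.finite_HH_of_isProper (A := k) _ (CubeField.isCoh_of_isInvertible hM.1) 0
  have hh0 : chi M = (Module.finrank k (Coh.HH A.left M 0) : ℤ) := by
    show Curv2.euler k A.left M = _
    rw [Curv2.euler, finsum_eq_single _ 0 fun p hp => ?_]
    · rw [pow_zero, one_mul]
    · haveI := subsingleton_of_isAmple A hM (Nat.pos_of_ne_zero hp)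
      rw [Module.finrank_zero_of_subsingleton, Nat.cast_zero, mul_zero]
  obtain ⟨n, hn⟩ : ∃ n, Module.finrank k (Coh.HH A.left M 0) = n + 1 := by
    haveI := nontrivial_of_isAmple A hM
    exact ⟨_, (Nat.succ_pred_eq_of_pos Module.finrank_pos).symm⟩
  let Bs := Module.finBasisOfFinrankEq k (Coh.HH A.left M 0) hn
  have hspan : ∀ t : Γ(M, (⊤ : A.left.Opens)), ∃ c : Fin (n + 1) → k,
      t = ∑ j, ProjUP.toGlobal (A.left ↘ Spec (CommRingCat.of k)) (c j) • CurveCoh17.hh0 M (Bs j) := fun t => by
    refine ⟨fun j => Bs.repr ((CurveCoh17.hh0 M).symm t) j, ?_⟩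
    conv_lhs => rw [← (CurveCoh17.hh0 M).apply_symm_apply t, ← Bs.sum_repr ((CurveCoh17.hh0 M).symm t), map_sum]
    exact Finset.sum_congr rfl fun j _ =>
      CurveCoh17.hh0_smul (Coh.toGlobal (A.left ↘ Spec (CommRingCat.of k)) (Bs.repr ((CurveCoh17.hh0 M).symm t) j)) (Bs j)
  have hid := fun x => CurveVA17.vaat_id_of_gen (A.left ↘ Spec (CommRingCat.of k)) hM hng x
  have hva := fun x => CurveVA17.vaat_of_span (fun j => CurveCoh17.hh0 M (Bs j)) hspan (hid x)
  obtain ⟨i, hi, hiA, ⟨e⟩⟩ := CurveVA17.exists_closedImmersion_exact (A.left ↘ Spec (CommRingCat.of k)) hM.1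
    (fun j => CurveCoh17.hh0 M (Bs j)) hva
  refine ⟨n, i, hi, hiA, ?_, fun l => ?_⟩
  · rw [← hchiM, hh0, hn]
    push_cast
    ring
  · rw [← hchiM, ← SelfInt13.chi_natPow hg hM.1]
    exact CurveCoh17.euler_iso (k := k) (M2.tensorLUnit _ ≪≫
      (((CMReg18.projData k n).pullback i).powIso l).symm ≪≫ M2.tensorPowIso e l)

end Groth.Agent.TateFinD14
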